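import Mathlib

/-!
Eigenspaces of abelian subgroups parametrised by a finite field, in a complex representation.
-/

set_option autoImplicit false

namespace CfsgLib.KnownA.MinDeg

variable {G V R : Type*} [Group G] [AddCommGroup V] [Module ℂ V] [Field R] [Fintype R]
variable (ρ : Representation ℂ G V) (ψ : AddChar R ℂ) (x : AddChar R G)

/-- The eigenspace of a parameter. -/
def eig (l : R) : Submodule ℂ V where
  carrier := {v | ∀ t, ρ (x t) v = ψ (l * t) • v}
  add_mem' := fun {u v} hu hv t => by rw [map_add, hu t, hv t, smul_add]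
  zero_mem' := fun t => by simp
  smul_mem' := fun c v hv t => by rw [map_smul, hv t, smul_comm]

omit [Fintype R] in
theorem mem_eig {l : R} {v : V} : v ∈ eig ρ ψ x l ↔ ∀ t, ρ (x t) v = ψ (l * t) • v := Iff.rfl

omit [Fintype R] in
theorem mem_eig_zero {v : V} : v ∈ eig ρ ψ x 0 ↔ ∀ t, ρ (x t) v = v := by
  simp [mem_eig]

/-- The projection on an eigenspace. -/
noncomputable def proj (l : R) : V →ₗ[ℂ] V :=
  (Fintype.card R : ℂ)⁻¹ • ∑ b, ψ (-(l * b)) • ρ (x b)

theorem proj_apply (l : R) (v : V) :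
    proj ρ ψ x l v = (Fintype.card R : ℂ)⁻¹ • ∑ b, ψ (-(l * b)) • ρ (x b) v := by
  simp [proj, LinearMap.sum_apply]

omit [Fintype R] in
theorem act_add (a b : R) (v : V) : ρ (x a) (ρ (x b) v) = ρ (x (a + b)) v := by
  rw [← Module.End.mul_apply, ← map_mul, ← AddChar.map_add_eq_mul]

theorem proj_mem (l : R) (v : V) : proj ρ ψ x l v ∈ eig ρ ψ x l := by
  intro t
  rw [proj_apply, map_smul, map_sum, smul_comm]
  congr 1
  rw [Finset.smul_sum]
  simp only [map_smul, act_add, smul_smul]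
  refine Fintype.sum_equiv (Equiv.addLeft t) _ _ fun b => ?_
  simp only [Equiv.coe_addLeft]
  congr 1
  rw [← AddChar.map_add_eq_mul]
  congr 1
  ring

omit [Fintype R] in
theorem ne_zero_card [Finite R] : (Nat.card R : ℂ) ≠ 0 := Nat.cast_ne_zero.2 Nat.card_pos.ne'

variable {ψ}

theorem sum_mul_eq (hψ : ψ.IsPrimitive) [DecidableEq R] (a : R) :
    ∑ b, ψ (a * b) = if a = 0 then (Fintype.card R : ℂ) else 0 := by
  have h := AddChar.sum_mulShift a hψ
  simp only [mul_comm _ a] at h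
  exact_mod_cast h

theorem proj_of_mem (hψ : ψ.IsPrimitive) [DecidableEq R] {l m : R} {v : V} (hv : v ∈ eig ρ ψ x m) :
    proj ρ ψ x l v = if l = m then v else 0 := by
  rw [proj_apply]
  simp only [hv _, smul_smul, ← AddChar.map_add_eq_mul, ← Finset.sum_smul]
  have e : ∀ b, -(l * b) + m * b = (m - l) * b := fun b => by ring
  simp only [e, sum_mul_eq hψ, sub_eq_zero]
  by_cases h : l = m
  · rw [if_pos h, if_pos h.symm, inv_mul_cancel₀ (Nat.cast_ne_zero.2 Fintype.card_ne_zero), one_smul]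
  · rw [if_neg h, if_neg (Ne.symm h), mul_zero, zero_smul]

theorem sum_proj (hψ : ψ.IsPrimitive) (v : V) : ∑ l, proj ρ ψ x l v = v := by
  classical
  simp only [proj_apply, ← Finset.smul_sum]
  rw [Finset.sum_comm]
  simp only [← Finset.sum_smul]
  have e : ∀ b : R, ∑ l, ψ (-(l * b)) = if b = 0 then (Fintype.card R : ℂ) else 0 := fun b => by
    have := sum_mul_eq hψ (-b)
    simp only [neg_mul, neg_eq_zero, mul_comm b] at this
    exact this
  simp only [e, ite_smul, zero_smul, Finset.sum_ite_eq', Finset.mem_univ, if_true, AddChar.map_zero_eq_one,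
    map_one, Module.End.one_apply, smul_smul]
  rw [inv_mul_cancel₀ (Nat.cast_ne_zero.2 Fintype.card_ne_zero), one_smul]

/-- A subspace stable under the subgroup. -/
def Stable (W : Submodule ℂ V) : Prop := ∀ t, ∀ v ∈ W, ρ (x t) v ∈ W

variable {ρ x}

theorem proj_stable {W : Submodule ℂ V} (hW : Stable ρ x W) (l : R) {v : V} (hv : v ∈ W) :
    proj ρ ψ x l v ∈ W := by
  rw [proj_apply]
  exact W.smul_mem _ (W.sum_mem fun b _ => W.smul_mem _ (hW b v hv))

theorem eq_sum_of_stable (hψ : ψ.IsPrimitive) {W : Submodule ℂ V} (hW : Stable ρ x W) :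
    W = ⨆ l, W ⊓ eig ρ ψ x l := by
  refine le_antisymm (fun v hv => ?_) (iSup_le fun l => inf_le_left)
  rw [← sum_proj ρ x hψ v]
  exact Submodule.sum_mem _ fun l _ =>
    Submodule.mem_iSup_of_mem l ⟨proj_stable hW l hv, proj_mem ρ ψ x l v⟩

variable [FiniteDimensional ℂ V]

theorem finrank_eq_sum (hψ : ψ.IsPrimitive) {W : Submodule ℂ V} (hW : Stable ρ x W) :
    Module.finrank ℂ W = ∑ l, Module.finrank ℂ ↥(W ⊓ eig ρ ψ x l) := by
  classical
  let Φ : (∀ l, ↥(W ⊓ eig ρ ψ x l)) →ₗ[ℂ] W :=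
    ∑ l, (Submodule.inclusion (inf_le_left : W ⊓ eig ρ ψ x l ≤ W)) ∘ₗ LinearMap.proj l
  have hΦ : ∀ f, ((Φ f : W) : V) = ∑ l, (f l : V) := fun f => by
    simp [Φ, LinearMap.sum_apply, Submodule.coe_inclusion]
  let Ψ : W →ₗ[ℂ] (∀ l, ↥(W ⊓ eig ρ ψ x l)) := LinearMap.pi fun l =>
    (LinearMap.codRestrict _ ((proj ρ ψ x l).comp W.subtype) fun v =>
      ⟨proj_stable hW l v.2, proj_mem ρ ψ x l v⟩)
  have h1 : Φ ∘ₗ Ψ = LinearMap.id := LinearMap.ext fun v => Subtype.ext (by
    rw [LinearMap.comp_apply, hΦ]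
    exact sum_proj ρ x hψ (v : V))
  have h2 : Ψ ∘ₗ Φ = LinearMap.id := LinearMap.ext fun f => funext fun l => Subtype.ext (by
    have e : ((Ψ (Φ f) l : ↥(W ⊓ eig ρ ψ x l)) : V) = proj ρ ψ x l (Φ f : V) := rfl
    rw [LinearMap.comp_apply, e, hΦ, map_sum, LinearMap.id_apply,
      Finset.sum_eq_single l (fun m _ hm => by rw [proj_of_mem ρ x hψ (f m).2.2, if_neg hm.symm])
        (fun h => absurd (Finset.mem_univ l) h), proj_of_mem ρ x hψ (f l).2.2, if_pos rfl])
  rw [← (LinearEquiv.ofLinearMap Φ Ψ h1 h2).finrank_eq, Module.finrank_pi_fintype]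

theorem card_mul_le (hψ : ψ.IsPrimitive) {W : Submodule ℂ V} (hW : Stable ρ x W) (S : Finset R) {d : ℕ}
    (hd : ∀ l ∈ S, d ≤ Module.finrank ℂ ↥(W ⊓ eig ρ ψ x l)) : S.card * d ≤ Module.finrank ℂ W := by
  rw [finrank_eq_sum hψ hW, ← smul_eq_mul, ← Finset.sum_const]
  exact (Finset.sum_le_sum hd).trans (Finset.sum_le_univ_sum_of_nonneg fun _ => Nat.zero_le _)

theorem exists_eig (hψ : ψ.IsPrimitive) {W : Submodule ℂ V} (hW : Stable ρ x W) (h0 : W ≠ ⊥) :
    ∃ l, W ⊓ eig ρ ψ x l ≠ ⊥ := by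
  by_contra h
  push Not at h
  refine h0 (Submodule.finrank_eq_zero.1 ?_)
  rw [finrank_eq_sum hψ hW]
  exact Finset.sum_eq_zero fun l _ => by rw [h l, finrank_bot]

theorem le_eig_zero (hψ : ψ.IsPrimitive) {W : Submodule ℂ V} (hW : Stable ρ x W)
    (h : ∀ l, l ≠ 0 → W ⊓ eig ρ ψ x l = ⊥) : W ≤ eig ρ ψ x 0 := by
  rw [eq_sum_of_stable hψ hW]
  refine iSup_le fun l => ?_
  by_cases hl : l = 0
  · subst hl; exact inf_le_right
  · rw [h l hl]; exact bot_le

omit [Fintype R] [FiniteDimensional ℂ V] in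
theorem map_injective (g : G) : Function.Injective (ρ g) := fun u v h => by
  have := congrArg (ρ g⁻¹) h
  rwa [← Module.End.mul_apply, ← Module.End.mul_apply, ← map_mul, inv_mul_cancel, map_one] at this

omit [Fintype R] in
theorem finrank_le_of_map (g : G) {A B : Submodule ℂ V} (h : ∀ v ∈ A, ρ g v ∈ B) :
    Module.finrank ℂ A ≤ Module.finrank ℂ B :=
  LinearMap.finrank_le_finrank_of_injective (f := (ρ g).restrict h)
    (fun u v e => Subtype.ext (map_injective g (congrArg Subtype.val e)))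

omit [Fintype R] [FiniteDimensional ℂ V] in
/-- An element scaling the parameters moves the eigenspaces. -/
theorem map_eig {y : AddChar R G} {g : G} {w : R} (hw : w ≠ 0) (h : ∀ t, y (w * t) * g = g * x t)
    {l : R} {v : V} (hv : v ∈ eig ρ ψ x l) : ρ g v ∈ eig ρ ψ y (l / w) := by
  intro t
  have e := h (t / w)
  rw [mul_div_cancel₀ _ hw] at e
  rw [← Module.End.mul_apply, ← map_mul, e, map_mul, Module.End.mul_apply, hv, map_smul]
  congr 2
  field_simp

omit [Fintype R] in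
/-- A nonzero subspace stable under everything is everything; hence it is not fixed pointwise. -/
theorem eq_bot_of_fixed [hirr : ρ.IsIrreducible] (hk : 2 ≤ Module.finrank ℂ V) {W : Submodule ℂ V}
    (h : ∀ g, ∀ v ∈ W, ρ g v = v) : W = ⊥ := by
  have hso : IsSimpleOrder (Subrepresentation ρ) := hirr
  by_contra hW
  obtain ⟨v, hv, hv0⟩ := Submodule.exists_mem_ne_zero_of_ne_bot hW
  let S : Subrepresentation ρ := ⟨ℂ ∙ v, fun g u hu => by
    obtain ⟨c, rfl⟩ := Submodule.mem_span_singleton.1 hu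
    rw [map_smul, h g v hv]
    exact Submodule.mem_span_singleton.2 ⟨c, rfl⟩⟩
  have hfin : Module.finrank ℂ (ℂ ∙ v) = 1 := finrank_span_singleton hv0
  rcases hso.eq_bot_or_eq_top S with e | e
  · have e' : (ℂ ∙ v) = ⊥ := congrArg Subrepresentation.toSubmodule e
    rw [e', finrank_bot] at hfin
    omega
  · have e' : (ℂ ∙ v) = ⊤ := congrArg Subrepresentation.toSubmodule e
    rw [e', finrank_top] at hfin
    omega

end CfsgLib.KnownA.MinDeg
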